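import Groth.Agent.FlatMorDevissage.PureProjective
import Groth.Agent.FlatMorDevissage.PureLocal
import Groth.Agent.FlatMorDevissage.PureDescend

/-!
# The open locus attached to an étale cover contains the points over a pure colimit
-/

set_option autoImplicit false
set_option backward.isDefEq.respectTransparency false

universe u

open TensorProduct Function

namespace Groth.Agent.FlatMorPureDescend

open Groth.Agent Groth.Agent.EGA43 EGA43.InjFibre Groth.Agent.FlatMorDevissage

attribute [local instance] Algebra.TensorProduct.rightAlgebra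

/-- Injectivity on the fibre at an associated point means some component avoids it. -/
theorem exists_notMem_of_fibInjAt {R S : Type u} [CommRing R] [CommRing S] [Algebra R S]
    [Algebra.FiniteType R S] {N : Type u} [AddCommGroup N] [Module S N] [Module R N]
    [IsScalarTower R S N] {ι : Type u} [Fintype ι] (g : ι → S) (p : Ideal R) [p.IsPrime]
    (P : Ideal S) [hP : P.IsPrime] [hover : P.LiesOver p]
    (hass : FlatCA.fiberIdeal p P ∈ associatedPrimes (p.Fiber S) (FlatCA.fiberMod p S N))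
    (hfib : FibInjAt R S (mulTuple N g) ⟨P, hP⟩) : ∃ i, g i ∉ P := by
  classical
  by_contra! hcon
  have hPc : P.comap (algebraMap R S) = p := hover.over.symm
  have : IsNoetherianRing (p.Fiber S) := Algebra.FiniteType.isNoetherianRing p.ResidueField _
  obtain ⟨n, hann⟩ := exists_annEl_of_assFibre p P hass
  have hr : ∀ i, ∃ r ∉ p, algebraMap R S r • g i • n ∈
      p.map (algebraMap R S) • (⊤ : Submodule S N) := fun i => by
    refine (CAlgH3.FiberMod.toFiberMod_eq_zero_iff N p _).1 ?_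
    rw [map_smul]
    exact CAlgH3.mem_annEl.1 (hann.ge (hcon i))
  choose r hrp hrn using hr
  let c := ∏ i, algebraMap R S (r i)
  have hc : c ∉ P := fun h' => by
    obtain ⟨i, -, hi⟩ := (hP.prod_mem_iff).1 h'
    exact hrp i (hPc ▸ hi)
  have hmem : c • mulTuple N g n ∈ p • (⊤ : Submodule R (ι → N)) := by
    have h1 : c • mulTuple N g n = ∑ i, LinearMap.single R (fun _ : ι => N) i (c • g i • n) := by
      simp only [LinearMap.single_apply]
      rw [Finset.univ_sum_single]
      rfl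
    rw [h1]
    refine Submodule.sum_mem _ fun i _ => ?_
    refine (Submodule.map_smul'' p ⊤ _).trans_le (Submodule.smul_mono le_rfl le_top)
      (Submodule.mem_map_of_mem (f := LinearMap.single R (fun _ : ι => N) i) ?_)
    rw [smul_top_restrict (B := S)]
    show (∏ j, algebraMap R S (r j)) • g i • n ∈ _
    rw [← Finset.mul_prod_erase _ _ (Finset.mem_univ i), mul_comm, mul_smul]
    exact Submodule.smul_mem _ _ (hrn i)
  obtain ⟨c', hc', hc'n⟩ := hfib n ⟨c, hc, by rw [hPc]; exact hmem⟩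
  rw [hPc] at hc'n
  refine hc' (hann.le (CAlgH3.mem_annEl.2 ?_))
  rw [← map_smul]
  exact CAlgH3.FiberMod.toFiberMod_mk_eq_zero p ((smul_top_restrict (B := S) p _).1 hc'n)

section Image

variable {R R' SA NA : Type u} [CommRing R] [CommRing R'] [CommRing SA] [Algebra R R'] [Algebra R' SA]
  [AddCommGroup NA] [Module SA NA] [Module R' NA] [IsScalarTower R' SA NA]
  [Algebra.FinitePresentation R' SA] [Module.FinitePresentation SA NA]
  {S' : Type u} [CommRing S'] [Algebra SA S'] [Module.Flat SA S']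
  {ι : Type u} [Fintype ι] (g : ι → SA)
  {A' SA' NA' : Type u} [CommRing A'] [CommRing SA'] [Algebra R' A'] [Algebra A' SA'] [Algebra SA SA']
  [Algebra R' SA'] [IsScalarTower R' A' SA'] [IsScalarTower R' SA SA'] [Algebra.IsPushout R' SA A' SA']
  [AddCommGroup NA'] [Module SA' NA'] [Module SA NA'] [IsScalarTower SA SA' NA'] [Module A' NA']
  [IsScalarTower A' SA' NA']

set_option maxHeartbeats 800000 in
/-- The map `mulTuple` attached to the cover is injective with flat cokernel at all images of points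
over generalisations of a prime along which the base change specialises. -/
theorem injFlatAt_of_specializes (fA : NA →ₗ[SA] NA') (hfA : IsBaseChange SA' fA)
    (p' : Ideal R') [p'.IsPrime]
    (hflat : ∀ (W : Ideal SA) [W.IsPrime], W.comap (algebraMap R' SA) = p' → FlatCA.FlatAt R' W NA)
    (hrange : ∀ (P : Ideal SA) [P.IsPrime],
      (∃ i, g i ∉ P) ↔ ∃ q' : Ideal S', q'.IsPrime ∧ q'.comap (algebraMap SA S') = P)
    (hcov : ∀ (W : Ideal SA) [W.IsPrime], W.comap (algebraMap R' SA) = p' → ∃ i, g i ∉ W)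
    (P : Ideal A') [P.IsPrime] (hP : P.comap (algebraMap R' A') = p')
    (hspec : ∀ (t : Ideal A') [t.IsPrime] (P₂ : Ideal SA') [P₂.IsPrime] [P₂.LiesOver t], t ≤ P →
      FlatCA.fiberIdeal t P₂ ∈ associatedPrimes (t.Fiber SA') (FlatCA.fiberMod t SA' NA') →
      ∃ W : Ideal SA', W.IsPrime ∧ P₂ ≤ W ∧ W.LiesOver P)
    (Q : Ideal SA') [Q.IsPrime] (hQ : Q.comap (algebraMap A' SA') ≤ P) :
    InjFlatAt R' SA (mulTuple NA g) ⟨Q.comap (algebraMap SA SA'), inferInstance⟩ := by
  classical
  have : Algebra.IsPushout R' A' SA SA' := Algebra.IsPushout.symm ‹_›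
  have : Algebra.FiniteType A' SA' :=
    Algebra.FiniteType.equiv (Algebra.FiniteType.baseChange (A := SA) A')
      (Algebra.IsPushout.equiv R' A' SA SA')
  let Q₀ := Q.comap (algebraMap SA SA')
  let t₂ := Q.comap (algebraMap A' SA')
  let t₀ := Q₀.comap (algebraMap R' SA)
  have : Q₀.LiesOver t₀ := ⟨rfl⟩
  have : t₂.LiesOver t₀ := ⟨by
    show Q₀.comap (algebraMap R' SA) = t₂.comap (algebraMap R' A')
    rw [Ideal.comap_comap, Ideal.comap_comap, ← IsScalarTower.algebraMap_eq,
      ← IsScalarTower.algebraMap_eq]⟩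
  have key : ∀ (P₀ : Ideal SA) [P₀.IsPrime], P₀.LiesOver t₀ →
      FlatCA.fiberIdeal t₀ P₀ ∈ associatedPrimes (t₀.Fiber SA) (FlatCA.fiberMod t₀ SA NA) →
      FlatCA.FlatAt R' P₀ NA ∧ ∃ i, g i ∉ P₀ := by
    intro P₀ _ hP₀ hass
    obtain ⟨P₂, hP₂, hP₂t, hP₂P₀, hass₂⟩ := exists_assFibre_over fA hfA t₀ t₂ P₀ hass
    obtain ⟨W, hW, hPW, hWP⟩ := hspec t₂ P₂ hQ hass₂
    let W₀ := W.comap (algebraMap SA SA')
    have hW₀ : W₀.comap (algebraMap R' SA) = p' := by
      rw [Ideal.comap_comap, ← IsScalarTower.algebraMap_eq, IsScalarTower.algebraMap_eq R' A' SA',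
        ← Ideal.comap_comap, ← Ideal.under_def _ W, ← hWP.over, hP]
    have hle : P₀ ≤ W₀ := hP₂P₀ ▸ Ideal.comap_mono hPW
    have hfl : FlatCA.FlatAt R' W₀ NA := hflat W₀ hW₀
    refine ⟨flatAt_of_le hle hfl, ?_⟩
    obtain ⟨q, hq, hPq, -, hqp, -⟩ :=
      exists_assFibre_specialization p' t₀ P₀ hass ⟨W₀, inferInstance⟩ hW₀ hle hfl
    obtain ⟨q₁, hq₁, hq₁q⟩ := (hrange q).1 (hcov q hqp.over.symm)
    have : q₁.LiesOver q := ⟨hq₁q.symm⟩
    obtain ⟨P', -, hP', hP'over⟩ := Ideal.exists_ideal_le_liesOver_of_le q₁ hPq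
    exact (hrange P₀).2 ⟨P', hP', hP'over.over.symm⟩
  have hflatQ : FlatCA.FlatAt R' Q₀ NA :=
    flatAt_of_assFibre t₀ Q₀ fun P₀ _ _ hP₀ hass => (key P₀ hP₀ hass).1
  have hA : Module.Flat R' (LocalizedModule Q₀.primeCompl (ι → NA)) :=
    EGA43.InjFibre.flat_localized_pi (A := R') Q₀.primeCompl hflatQ
  have hfib : FibInjAt R' SA (mulTuple NA g) ⟨Q₀, inferInstance⟩ :=
    fibInjAt_mulTuple t₀ g ⟨Q₀, inferInstance⟩ rfl fun P₀ _ hover _ hass => (key P₀ hover hass).2
  have hU := uInjAt_of_fibInjAt hA hfib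
  exact ⟨fun m hm => hU.exists_smul_eq_zero hm,
    hU.flat_coker hA (LinearMap.range (mulTuple NA g)).mkQ
      (Submodule.mkQ_surjective _) (LinearMap.exact_map_mkQ_range (mulTuple NA g))⟩

end Image

end Groth.Agent.FlatMorPureDescend
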