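import Groth.Agent.FlatMorPureDescend.Stage
import Groth.Agent.FlatMorPureDescend.Image
import Groth.Agent.FlatMorDevissage.PureCover

/-!
# Purity descends to a stage
-/

set_option autoImplicit false
set_option backward.isDefEq.respectTransparency false

universe u

open TensorProduct Function IsLocalRing

namespace Groth.Agent.FlatMorPureDescend

open Groth.Agent Groth.Agent.FlatMor12 Groth.Agent.EGA43 EGA43.InjFibre Groth.Agent.FlatMorDevissage

attribute [local instance] Algebra.TensorProduct.rightAlgebra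

variable {R : Type u} [CommRing R] {ι : Type u} [Preorder ι] {G : ι → Type u}
  [∀ i, CommRing (G i)] [∀ i, Algebra R (G i)] (g : ∀ i j, i ≤ j → G i →ₐ[R] G j)
  {A : Type u} [CommRing A] [Algebra R A] [∀ i, Algebra (G i) A] [∀ i, IsScalarTower R (G i) A]
  (hc : FlatCA.IsDirectedColimitRing G (fun i j h => (g i j h).toRingHom) A)

/-- The elementary étale neighbourhood of the colimit. -/
theorem exists_nhd_colim {R' : Type u} [CommRing R'] [Algebra R R'] {p₀ : Ideal R} [p₀.IsPrime]
    {p' : Ideal R'} [p'.IsPrime] (hR' : FlatCA.IsEtaleNhd R R' p₀ p') (p : Ideal A) [p.IsPrime]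
    [hp : p.LiesOver p₀] :
    ∃ (P : Ideal (A ⊗[R] R')) (_ : P.IsPrime), P.LiesOver p ∧ P.LiesOver p' ∧
      FlatCA.IsEtaleNhd A (A ⊗[R] R') p P := by
  obtain ⟨Q, hQ, hQl, hQr⟩ := FlatMor12.FlatAtDescent.exists_prime_over (R := R) (S := R') p p'
    (hp.over.symm.trans hR'.2.1.over)
  have h1 : Q.LiesOver p := ⟨hQl.symm⟩
  have h2 : Q.LiesOver p' := ⟨hQr.symm⟩
  exact ⟨Q, hQ, h1, h2, isEtaleNhd_tensor p₀ p p' hR' Q⟩

/-- The map from the stage to a base change over an algebra over the stage of the neighbourhood. -/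
theorem exists_stage_map {Gk R' SA L SL : Type u} [CommRing Gk] [CommRing R'] [CommRing SA] [CommRing L]
    [CommRing SL] [Algebra R Gk] [Algebra R R'] [Algebra R SA] [Algebra R' SA] [IsScalarTower R R' SA]
    [Algebra (Gk ⊗[R] R') L] [Algebra R' L] [IsScalarTower R' (Gk ⊗[R] R') L] [Algebra L SL] [Algebra SA SL]
    [Algebra R' SL] [IsScalarTower R' L SL] [IsScalarTower R' SA SL] :
    ∃ ψ : Gk ⊗[R] SA →+* SL, (∀ c : SA, ψ ((1 : Gk) ⊗ₜ[R] c) = algebraMap SA SL c) ∧
      ∀ z : Gk ⊗[R] R', ψ (Algebra.TensorProduct.map (AlgHom.id R Gk) (IsScalarTower.toAlgHom R R' SA) z) =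
        algebraMap L SL (algebraMap (Gk ⊗[R] R') L z) := by
  let _ : Algebra R SL := ((algebraMap R' SL).comp (algebraMap R R')).toAlgebra
  let f₁ : Gk →ₐ[R] SL :=
    { (algebraMap L SL).comp ((algebraMap (Gk ⊗[R] R') L).comp
        (Algebra.TensorProduct.includeLeftRingHom : Gk →+* Gk ⊗[R] R')) with
      commutes' := fun r => by
        show algebraMap L SL (algebraMap (Gk ⊗[R] R') L ((algebraMap R Gk r) ⊗ₜ[R] (1 : R'))) =
          algebraMap R' SL (algebraMap R R' r)
        have h : (algebraMap R Gk r) ⊗ₜ[R] (1 : R') = algebraMap R' (Gk ⊗[R] R') (algebraMap R R' r) := by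
          show _ = (1 : Gk) ⊗ₜ[R] algebraMap R R' r
          rw [Algebra.algebraMap_eq_smul_one, Algebra.algebraMap_eq_smul_one, TensorProduct.smul_tmul]
        rw [h, ← IsScalarTower.algebraMap_apply R' (Gk ⊗[R] R') L, ← IsScalarTower.algebraMap_apply R' L SL] }
  let f₂ : SA →ₐ[R] SL :=
    { algebraMap SA SL with
      commutes' := fun r => by
        show algebraMap SA SL (algebraMap R SA r) = algebraMap R' SL (algebraMap R R' r)
        rw [IsScalarTower.algebraMap_apply R R' SA, ← IsScalarTower.algebraMap_apply R' SA SL] }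
  refine ⟨(Algebra.TensorProduct.lift f₁ f₂ fun _ _ => .all _ _).toRingHom, fun c => ?_, fun z => ?_⟩
  · show Algebra.TensorProduct.lift f₁ f₂ _ ((1 : Gk) ⊗ₜ[R] c) = _
    rw [Algebra.TensorProduct.lift_tmul, map_one, one_mul]
    rfl
  · induction z using TensorProduct.induction_on with
    | zero => simp
    | add u v hu hv => simp only [map_add, hu, hv]
    | tmul a r =>
      show Algebra.TensorProduct.lift f₁ f₂ _ (a ⊗ₜ[R] algebraMap R' SA r) = _
      have e1 : a ⊗ₜ[R] r = (a ⊗ₜ[R] (1 : R')) * algebraMap R' (Gk ⊗[R] R') r := by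
        show a ⊗ₜ[R] r = (a ⊗ₜ[R] (1 : R')) * ((1 : Gk) ⊗ₜ[R] r)
        simp
      rw [Algebra.TensorProduct.lift_tmul, e1, map_mul, map_mul,
        ← IsScalarTower.algebraMap_apply R' (Gk ⊗[R] R') L, ← IsScalarTower.algebraMap_apply R' L SL,
        IsScalarTower.algebraMap_apply R' SA SL]
      rfl

/-- Comparison of base changes. -/
theorem projective_tensor_stage {R' S SA L SL Gk N NA NL : Type u} [CommRing R'] [CommRing S] [CommRing SA]
    [CommRing L] [CommRing SL] [CommRing Gk] [Algebra R R'] [Algebra R S] [Algebra R Gk] [Algebra R L]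
    [Algebra Gk L] [IsScalarTower R Gk L] [Algebra R' L] [IsScalarTower R R' L] [Algebra R SA]
    [Algebra R' SA] [Algebra S SA] [IsScalarTower R R' SA] [IsScalarTower R S SA]
    [Algebra.IsPushout R R' S SA] [Algebra L SL] [Algebra SA SL] [Algebra R' SL] [IsScalarTower R' L SL]
    [IsScalarTower R' SA SL] [Algebra.IsPushout R' L SA SL] [AddCommGroup N] [Module S N] [Module R N]
    [IsScalarTower R S N] [AddCommGroup NA] [Module SA NA] [Module S NA] [IsScalarTower S SA NA]
    [Module R' NA] [IsScalarTower R' SA NA] [AddCommGroup NL] [Module SL NL] [Module SA NL]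
    [IsScalarTower SA SL NL] [Module L NL] [IsScalarTower L SL NL]
    (fN : N →ₗ[S] NA) (hfN : IsBaseChange SA fN) (fL : NA →ₗ[SA] NL) (hfL : IsBaseChange SL fL)
    [Module.Projective L NL] : Module.Projective L (L ⊗[Gk] ((Gk ⊗[R] S) ⊗[S] N)) := by
  let eA : NA ≃ₗ[R'] R' ⊗[R] N := (hfN.equiv.restrictScalars R').symm.trans
    (Algebra.IsPushout.cancelBaseChange R R' S SA N)
  exact Module.Projective.of_equiv
    ((((hfL.equiv.restrictScalars L).symm.trans
      (Algebra.IsPushout.cancelBaseChange R' L SA SL NA)).trans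
      ((AlgebraTensorModule.congr (LinearEquiv.refl L L) eA).trans
        (AlgebraTensorModule.cancelBaseChange R R' L L N))).trans
      ((AlgebraTensorModule.cancelBaseChange R Gk L L N).symm.trans
        (AlgebraTensorModule.congr (LinearEquiv.refl L L)
          (Algebra.IsPushout.cancelBaseChange R Gk S (Gk ⊗[R] S) N).symm)))

set_option maxHeartbeats 800000 in
/-- Projectivity over a base change from a cover meeting the associated points of all fibres. -/
theorem projective_baseChange_of_cover {R' L SA SL S' NA NL : Type u} [CommRing R'] [CommRing L]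
    [CommRing SA] [CommRing SL] [CommRing S'] [Algebra R' L] [Algebra R' SA] [Algebra SA SL]
    [Algebra L SL] [Algebra R' SL] [IsScalarTower R' L SL] [IsScalarTower R' SA SL]
    [Algebra.IsPushout R' L SA SL] [Algebra SA S'] [Algebra R' S'] [IsScalarTower R' SA S']
    [Module.Flat SA S'] [Algebra.FiniteType R' SA] [AddCommGroup NA] [Module SA NA] [Module R' NA]
    [IsScalarTower R' SA NA] [Module.Finite SA NA] [AddCommGroup NL] [Module SL NL] [Module SA NL]
    [IsScalarTower SA SL NL] [Module L NL] [IsScalarTower L SL NL]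
    (fL : NA →ₗ[SA] NL) (hfL : IsBaseChange SL fL) [Module.Projective R' (S' ⊗[SA] NA)]
    (h : ∀ (t : Ideal L) [t.IsPrime] (Q : Ideal SL) [Q.IsPrime], Q.LiesOver t →
      FlatCA.fiberIdeal t Q ∈ associatedPrimes (t.Fiber SL) (FlatCA.fiberMod t SL NL) →
      ∃ q' : Ideal S', q'.IsPrime ∧ q'.comap (algebraMap SA S') = Q.comap (algebraMap SA SL)) :
    Module.Projective L NL := by
  have : Algebra.FiniteType L SL :=
    Algebra.FiniteType.equiv (Algebra.FiniteType.baseChange (A := SA) L) (Algebra.IsPushout.equiv R' L SA SL)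
  have : Module.Finite SL NL := Module.Finite.equiv hfL.equiv
  let C := SL ⊗[SA] S'
  have : Module.Projective L (C ⊗[SL] NL) := by
    let e₀ : C ⊗[SL] NL ≃ₗ[C] C ⊗[SL] (SL ⊗[SA] NA) :=
      AlgebraTensorModule.congr (LinearEquiv.refl C C) hfL.equiv.symm
    let e₁ : C ⊗[SL] (SL ⊗[SA] NA) ≃ₗ[C] C ⊗[SA] NA :=
      AlgebraTensorModule.cancelBaseChange SA SL C C NA
    let e₂ : C ⊗[SA] NA ≃ₗ[SL] SL ⊗[SA] (S' ⊗[SA] NA) :=
      AlgebraTensorModule.assoc SA SA SL SL S' NA
    let e₃ : SL ⊗[SA] (S' ⊗[SA] NA) ≃ₗ[L] L ⊗[R'] (S' ⊗[SA] NA) :=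
      Algebra.IsPushout.cancelBaseChange R' L SA SL (S' ⊗[SA] NA)
    exact Module.Projective.of_equiv
      ((((e₀.trans e₁).restrictScalars L).trans (e₂.restrictScalars L)).trans e₃).symm
  refine projective_of_cover_all (S := SL) (C := C) fun t _ Q _ hQt hass => ?_
  obtain ⟨q', hq', hq'Q⟩ := h t Q hQt hass
  obtain ⟨y, hy, hyQ, -⟩ := FlatMor12.FlatAtDescent.exists_prime_over (R := SA) (S := S') Q q' hq'Q.symm
  exact ⟨y, hy, hyQ⟩

set_option maxHeartbeats 800000 in
/-- If the good locus contains all images of points over generalisations of the point of the stage,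
the module becomes projective over the local ring of that point. -/
theorem projective_stage {Gk R' SA L SL S' NA NL : Type u} [CommRing Gk] [CommRing R'] [CommRing SA]
    [CommRing L] [IsLocalRing L] [CommRing SL] [CommRing S'] [Algebra R Gk] [Algebra R R'] [Algebra R SA]
    [Algebra R' SA] [IsScalarTower R R' SA] [Algebra (Gk ⊗[R] R') L] [Algebra R' L]
    [IsScalarTower R' (Gk ⊗[R] R') L] [Algebra L SL] [Algebra SA SL]
    [Algebra R' SL] [IsScalarTower R' L SL] [IsScalarTower R' SA SL]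
    [Algebra.IsPushout R' L SA SL] [Algebra SA S'] [Algebra R' S'] [IsScalarTower R' SA S']
    [Module.Flat SA S'] [Algebra.FiniteType R' SA] [AddCommGroup NA] [Module SA NA] [Module R' NA]
    [IsScalarTower R' SA NA] [Module.Finite SA NA] [AddCommGroup NL] [Module SL NL] [Module SA NL]
    [IsScalarTower SA SL NL] [Module L NL] [IsScalarTower L SL NL]
    (fL : NA →ₗ[SA] NL) (hfL : IsBaseChange SL fL) [Module.Projective R' (S' ⊗[SA] NA)]
    {κ : Type u} [Fintype κ] (gT : κ → SA)
    (hrange : ∀ (P : Ideal SA) [P.IsPrime],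
      (∃ i, gT i ∉ P) ↔ ∃ q' : Ideal S', q'.IsPrime ∧ q'.comap (algebraMap SA S') = P)
    (Pk : Ideal (Gk ⊗[R] R')) (hPk : (maximalIdeal L).comap (algebraMap (Gk ⊗[R] R') L) ≤ Pk)
    (hk : ∀ (Q : Ideal (Gk ⊗[R] SA)) [Q.IsPrime],
      Q.comap (Algebra.TensorProduct.map (AlgHom.id R Gk) (IsScalarTower.toAlgHom R R' SA)).toRingHom ≤ Pk →
      InjFlatAt R' SA (mulTuple NA gT)
        ⟨Q.comap (Algebra.TensorProduct.includeRight : SA →ₐ[R] Gk ⊗[R] SA).toRingHom, inferInstance⟩) :
    Module.Projective L NL := by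
  have : Algebra.FiniteType L SL :=
    Algebra.FiniteType.equiv (Algebra.FiniteType.baseChange (A := SA) L) (Algebra.IsPushout.equiv R' L SA SL)
  refine projective_baseChange_of_cover (R' := R') (S' := S') fL hfL fun t _ Q _ hQt hass => ?_
  obtain ⟨ψk, hψ₁, hψ⟩ := exists_stage_map (R := R) (Gk := Gk) (R' := R') (SA := SA) (L := L) (SL := SL)
  have hQk : (Q.comap ψk).comap
      (Algebra.TensorProduct.map (AlgHom.id R Gk) (IsScalarTower.toAlgHom R R' SA)).toRingHom ≤ Pk := fun z hz => by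
    have hz' : algebraMap L SL (algebraMap (Gk ⊗[R] R') L z) ∈ Q := hψ z ▸ hz
    exact hPk (IsLocalRing.le_maximalIdeal ‹t.IsPrime›.ne_top (hQt.over.ge hz'))
  have : Algebra.IsPushout R' SA L SL := Algebra.IsPushout.symm ‹_›
  obtain ⟨hover, hass'⟩ := assFibre_comap (S₂ := SL) fL hfL (t.comap (algebraMap R' L)) t Q hass
  have hQ₀ : (Q.comap ψk).comap (Algebra.TensorProduct.includeRight : SA →ₐ[R] Gk ⊗[R] SA).toRingHom =
      Q.comap (algebraMap SA SL) := by
    ext c
    show ψk ((1 : Gk) ⊗ₜ[R] c) ∈ Q ↔ _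
    rw [hψ₁]
    rfl
  have hInj : InjFlatAt R' SA (mulTuple NA gT) ⟨Q.comap (algebraMap SA SL), inferInstance⟩ := by
    have := hk (Q.comap ψk) hQk
    simpa only [hQ₀] using this
  exact (hrange _).1
    (exists_notMem_of_fibInjAt gT (t.comap (algebraMap R' L)) _ hass' hInj.uInjAt.fibInjAt)

variable (A) in
set_option maxHeartbeats 1600000 in
/-- The open locus contains the images of the points over generalisations of the point of the colimit. -/
theorem injFlatAt_image {S R' SA : Type u} [CommRing S] [CommRing R'] [CommRing SA] [Algebra R S]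
    [Algebra R R'] [Algebra R SA] [Algebra R' SA] [Algebra S SA] [IsScalarTower R R' SA]
    [IsScalarTower R S SA] [Algebra.IsPushout R R' S SA] [Algebra.FinitePresentation R' SA]
    {N NA : Type u} [AddCommGroup N] [Module S N] [AddCommGroup NA] [Module SA NA] [Module S NA]
    [IsScalarTower S SA NA] [Module R' NA] [IsScalarTower R' SA NA] [Module.FinitePresentation SA NA]
    (fN : N →ₗ[S] NA) (hfN : IsBaseChange SA fN)
    {S' : Type u} [CommRing S'] [Algebra SA S'] [Module.Flat SA S'] {κ : Type u} [Fintype κ] (gT : κ → SA)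
    (hrange : ∀ (P : Ideal SA) [P.IsPrime],
      (∃ i, gT i ∉ P) ↔ ∃ q' : Ideal S', q'.IsPrime ∧ q'.comap (algebraMap SA S') = P)
    (p' : Ideal R') [p'.IsPrime]
    (hflatA : ∀ (W : Ideal SA) [W.IsPrime], W.comap (algebraMap R' SA) = p' → FlatCA.FlatAt R' W NA)
    (hcovA : ∀ (W : Ideal SA) [W.IsPrime], W.comap (algebraMap R' SA) = p' → ∃ i, gT i ∉ W)
    {p : Ideal A} [p.IsPrime] {B N₁ : Type u} [CommRing B] [Algebra A B] [Algebra R B]
    [IsScalarTower R A B] [Algebra S B] [IsScalarTower R S B] [Algebra.IsPushout R A S B]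
    [AddCommGroup N₁] [Module B N₁] [Module S N₁] [IsScalarTower S B N₁]
    (f : N →ₗ[S] N₁) (hf : IsBaseChange B f) (hpure : FlatCA.IsPureAlong A B N₁ p)
    (P : Ideal (A ⊗[R] R')) [P.IsPrime] (hPp : P.LiesOver p) (hPp' : P.LiesOver p')
    (hnhd : FlatCA.IsEtaleNhd A (A ⊗[R] R') p P) (Q : Ideal (A ⊗[R] SA)) [Q.IsPrime]
    (hQ : Q.comap (Algebra.TensorProduct.map (AlgHom.id R A) (IsScalarTower.toAlgHom R R' SA)).toRingHom ≤ P) :
    InjFlatAt R' SA (mulTuple NA gT)
      ⟨Q.comap (Algebra.TensorProduct.includeRight : SA →ₐ[R] A ⊗[R] SA).toRingHom, inferInstance⟩ := by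
  let jS : R' →ₐ[R] SA := IsScalarTower.toAlgHom R R' SA
  let A' := A ⊗[R] R'
  let SA' := A ⊗[R] SA
  let ψ : A' →ₐ[R] SA' := Algebra.TensorProduct.map (AlgHom.id R A) jS
  let _ : Algebra A' SA' := ψ.toRingHom.toAlgebra
  let _ : Algebra R' SA' := ((algebraMap SA SA').comp (algebraMap R' SA)).toAlgebra
  have : IsScalarTower R' SA SA' := .of_algebraMap_eq' rfl
  have : IsScalarTower R' A' SA' := .of_algebraMap_eq fun r => by
    show (1 : A) ⊗ₜ[R] algebraMap R' SA r = ψ ((1 : A) ⊗ₜ[R] r)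
    rw [Algebra.TensorProduct.map_tmul, AlgHom.id_apply]
    rfl
  have : IsScalarTower A A' SA' := .of_algebraMap_eq fun a => by
    show a ⊗ₜ[R] (1 : SA) = ψ (a ⊗ₜ[R] (1 : R'))
    rw [Algebra.TensorProduct.map_tmul, AlgHom.id_apply, map_one]
  have : IsScalarTower R R' SA' := .of_algebraMap_eq fun r => by
    show _ = algebraMap SA SA' (algebraMap R' SA (algebraMap R R' r))
    rw [← IsScalarTower.algebraMap_apply R R' SA, ← IsScalarTower.algebraMap_apply]
  have : IsScalarTower R A' SA' := .of_algebraMap_eq fun r => (ψ.commutes r).symm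
  let χ : B →ₐ[A] SA' := ((Algebra.TensorProduct.map (AlgHom.id A A)
    (IsScalarTower.toAlgHom R S SA))).comp (Algebra.IsPushout.equiv R A S B).symm.toAlgHom
  let _ : Algebra B SA' := χ.toRingHom.toAlgebra
  have : IsScalarTower A B SA' := .of_algebraMap_eq fun a => (χ.commutes a).symm
  let _ : Algebra S SA' := ((algebraMap SA SA').comp (algebraMap S SA)).toAlgebra
  have : IsScalarTower S SA SA' := .of_algebraMap_eq' rfl
  have : IsScalarTower S B SA' := .of_algebraMap_eq fun s => by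
    show (1 : A) ⊗ₜ[R] algebraMap S SA s = χ (algebraMap S B s)
    show _ = Algebra.TensorProduct.map (AlgHom.id A A) (IsScalarTower.toAlgHom R S SA)
      ((Algebra.IsPushout.equiv R A S B).symm (algebraMap S B s))
    rw [Algebra.IsPushout.equiv_symm_algebraMap_right, Algebra.TensorProduct.map_tmul,
      AlgHom.id_apply]
    rfl
  have : IsScalarTower R S SA' := .of_algebraMap_eq fun r => by
    show _ = algebraMap SA SA' (algebraMap S SA (algebraMap R S r))
    rw [← IsScalarTower.algebraMap_apply R S SA, ← IsScalarTower.algebraMap_apply]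
  have : IsScalarTower R B SA' := .of_algebraMap_eq fun r => by
    rw [IsScalarTower.algebraMap_apply R A B, ← IsScalarTower.algebraMap_apply A B SA',
      ← IsScalarTower.algebraMap_apply R A SA']
  have hpoA : Algebra.IsPushout R R' A A' := Algebra.IsPushout.symm inferInstance
  have : Algebra.IsPushout R A SA SA' := inferInstance
  have hpoA' : Algebra.IsPushout R A R' A' := inferInstance
  have hpo₁ : Algebra.IsPushout R' A' SA SA' :=
    ((Algebra.IsPushout.comp_iff (R := R) (S := R') (R' := A) (S' := A') (T := SA) (T' := SA')).1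
      (Algebra.IsPushout.symm inferInstance)).symm
  have : Algebra.IsPushout R' SA A' SA' := hpo₁.symm
  have hpo₂ : Algebra.IsPushout R A' S SA' :=
    (Algebra.IsPushout.comp_iff (R := R) (S := R') (R' := S) (S' := SA) (T := A') (T' := SA')).2 hpo₁
  have : Algebra.IsPushout A B A' SA' :=
    ((Algebra.IsPushout.comp_iff (R := R) (S := A) (R' := S) (S' := B) (T := A') (T' := SA')).1 hpo₂).symm
  let NA' := SA' ⊗[SA] NA
  let fA : NA →ₗ[SA] NA' := TensorProduct.mk SA SA' NA 1
  have hfA : IsBaseChange SA' fA := TensorProduct.isBaseChange SA NA SA'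
  let _ : Module B NA' := Module.compHom NA' χ.toRingHom
  have : IsScalarTower B SA' NA' := .of_algebraMap_smul fun _ _ => rfl
  let _ : Module S NA' := Module.compHom NA' (algebraMap S SA')
  have : IsScalarTower S SA' NA' := .of_algebraMap_smul fun _ _ => rfl
  have : IsScalarTower S SA NA' := .of_algebraMap_smul fun s x => by
    show algebraMap S SA s • x = algebraMap S SA' s • x
    rw [← algebraMap_smul SA' (algebraMap S SA s) x, ← IsScalarTower.algebraMap_apply S SA SA']
  have : IsScalarTower S B NA' := .of_algebraMap_smul fun s x => by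
    show χ (algebraMap S B s) • x = algebraMap S SA' s • x
    rw [IsScalarTower.algebraMap_apply S B SA']
    rfl
  let f₀ : N →ₗ[S] NA' := (fA.restrictScalars S).comp fN
  have hf₀ : IsBaseChange SA' f₀ := hfN.comp hfA
  let fB : N₁ →ₗ[B] NA' := hf.lift f₀
  have hfB : IsBaseChange SA' fB := hf.of_comp (by
    rw [IsBaseChange.lift_comp]; exact hf₀)
  exact injFlatAt_of_specializes (S' := S') gT fA hfA p' hflatA hrange hcovA P hPp'.over.symm
    (fun t _ P₂ _ _ htP hass => by
      by_contra! hno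
      exact hpure A' SA' NA' fB t P P₂ hnhd
        ⟨inferInstance, hfB, htP, hPp, inferInstance, hass, fun W hW hle => hno W hW hle⟩) Q hQ

set_option maxHeartbeats 1600000 in
/-- Universal purity at the stage. -/
theorem isUnivPureAlong_stage {Gk R' S SA S' N NA : Type u} [CommRing Gk] [CommRing R'] [CommRing S]
    [CommRing SA] [CommRing S'] [Algebra R Gk] [Algebra R R'] [Algebra.Etale R R'] [Algebra R S]
    [Algebra.FiniteType R S] [Algebra R SA] [Algebra R' SA] [Algebra S SA] [IsScalarTower R R' SA]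
    [IsScalarTower R S SA] [Algebra.IsPushout R R' S SA] [Algebra.FiniteType R' SA] [Algebra SA S']
    [Algebra R' S'] [IsScalarTower R' SA S'] [Module.Flat SA S']
    [AddCommGroup N] [Module S N] [Module R N] [IsScalarTower R S N] [AddCommGroup NA] [Module SA NA]
    [Module S NA] [IsScalarTower S SA NA] [Module R' NA] [IsScalarTower R' SA NA] [Module.Finite SA NA]
    (fN : N →ₗ[S] NA) (hfN : IsBaseChange SA fN) (hproj : Module.Projective R' (S' ⊗[SA] NA))
    {κ : Type u} [Fintype κ] (gT : κ → SA)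
    (hrange : ∀ (P : Ideal SA) [P.IsPrime],
      (∃ i, gT i ∉ P) ↔ ∃ q' : Ideal S', q'.IsPrime ∧ q'.comap (algebraMap SA S') = P)
    (L : Type u) [CommRing L] [IsLocalRing L] [Algebra (Gk ⊗[R] R') L] [Algebra R' L]
    [IsScalarTower R' (Gk ⊗[R] R') L] [Algebra Gk L] [IsScalarTower Gk (Gk ⊗[R] R') L]
    [Algebra R L] [IsScalarTower R Gk L] [IsScalarTower R R' L] [Module.Flat Gk L]
    (Pk : Ideal (Gk ⊗[R] R')) (hPk : (maximalIdeal L).comap (algebraMap (Gk ⊗[R] R') L) = Pk)
    (pk : Ideal Gk) [pk.IsPrime] (hpk : Pk.comap (algebraMap Gk (Gk ⊗[R] R')) = pk)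
    (hk : ∀ (Q : Ideal (Gk ⊗[R] SA)) [Q.IsPrime],
      Q.comap (Algebra.TensorProduct.map (AlgHom.id R Gk) (IsScalarTower.toAlgHom R R' SA)).toRingHom ≤ Pk →
      InjFlatAt R' SA (mulTuple NA gT)
        ⟨Q.comap (Algebra.TensorProduct.includeRight : SA →ₐ[R] Gk ⊗[R] SA).toRingHom, inferInstance⟩) :
    FlatCA.IsUnivPureAlong Gk (Gk ⊗[R] S) ((Gk ⊗[R] S) ⊗[S] N) pk := by
  have hL : (maximalIdeal L).comap (algebraMap Gk L) = pk := by
    rw [IsScalarTower.algebraMap_eq Gk (Gk ⊗[R] R') L, ← Ideal.comap_comap, hPk, hpk]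
  let SL := L ⊗[R'] SA
  let NL := SL ⊗[SA] NA
  let fL : NA →ₗ[SA] NL := TensorProduct.mk SA SL NA 1
  have hfL : IsBaseChange SL fL := TensorProduct.isBaseChange SA NA SL
  have : Module.Projective L NL :=
    projective_stage (R := R) (Gk := Gk) (R' := R') (S' := S') fL hfL gT hrange Pk
      hPk.le hk
  have : Module.Projective L (L ⊗[Gk] ((Gk ⊗[R] S) ⊗[S] N)) :=
    projective_tensor_stage (R := R) (R' := R') (Gk := Gk) fN hfN fL hfL
  have : Algebra.FiniteType Gk (Gk ⊗[R] S) := Algebra.FiniteType.baseChange (A := S) Gk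
  exact isUnivPureAlong_of_local (B := Gk ⊗[R] S) (N := (Gk ⊗[R] S) ⊗[S] N) (L := L) pk hL

include hc in
set_option maxHeartbeats 1600000 in
/-- **Purity along a prime descends to a stage.** -/
theorem exists_stage_pure {S : Type u} [CommRing S] [Algebra R S] [Algebra.FinitePresentation R S]
    {N : Type u} [AddCommGroup N] [Module S N] [Module R N] [IsScalarTower R S N]
    [Module.FinitePresentation S N] (p₀ : Ideal R) [p₀.IsPrime]
    (hflat : ∀ (q : Ideal S) [q.IsPrime], q.LiesOver p₀ → FlatCA.FlatAt R q N)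
    (p : Ideal A) [p.IsPrime] [p.LiesOver p₀]
    {B N₁ : Type u} [CommRing B] [Algebra A B] [Algebra R B] [IsScalarTower R A B] [Algebra S B]
    [IsScalarTower R S B] [Algebra.IsPushout R A S B] [AddCommGroup N₁] [Module B N₁] [Module S N₁]
    [IsScalarTower S B N₁] (f : N →ₗ[S] N₁) (hf : IsBaseChange B f)
    (hpure : FlatCA.IsPureAlong A B N₁ p) :
    ∃ k, ∀ [(p.comap (algebraMap (G k) A)).IsPrime],
      FlatCA.IsPureAlong (G k) (G k ⊗[R] S) ((G k ⊗[R] S) ⊗[S] N) (p.comap (algebraMap (G k) A)) := by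
  classical
  obtain ⟨R', S', _, _, _, _, _, _, _, _, p', _, hR, hS, hcov, hproj⟩ :=
    exists_projective_cover N p₀ hflat
  obtain ⟨hRe, hRo, hRb⟩ := id hR
  let SA := R' ⊗[R] S
  let NA := SA ⊗[S] N
  let θ : SA →ₐ[R'] S' := Algebra.TensorProduct.lift (Algebra.ofId R' S')
    (IsScalarTower.toAlgHom R S S') fun _ _ => .all _ _
  let _ : Algebra SA S' := θ.toRingHom.toAlgebra
  have : IsScalarTower R' SA S' := .of_algebraMap_eq fun r => (θ.commutes r).symm
  have : IsScalarTower S SA S' := .of_algebraMap_eq fun b => by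
    show _ = θ ((1 : R') ⊗ₜ[R] b)
    rw [Algebra.TensorProduct.lift_tmul, map_one, one_mul]
    rfl
  have : Algebra.Etale S SA := etale_rightAlgebra
  have : Algebra.Etale SA S' := Algebra.Etale.of_restrictScalars S _ _
  have : Algebra.IsPushout R S R' SA := Algebra.IsPushout.symm inferInstance
  let fN : N →ₗ[S] NA := TensorProduct.mk S SA N 1
  have hfN : IsBaseChange SA fN := TensorProduct.isBaseChange S N SA
  let eS : S' ⊗[SA] NA ≃ₗ[S'] S' ⊗[S] N :=
    TensorProduct.AlgebraTensorModule.cancelBaseChange S SA S' S' N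
  have : Module.Projective R' (S' ⊗[SA] NA) :=
    Module.Projective.of_equiv (eS.restrictScalars R').symm
  -- the image of the cover
  let φ := PrimeSpectrum.comap (algebraMap SA S')
  have hopen : IsOpen (Set.range φ) := by
    rw [← Set.image_univ]
    exact PrimeSpectrum.isOpenMap_comap_of_hasGoingDown_of_finitePresentation _ isOpen_univ
  obtain ⟨T, hT⟩ := PrimeSpectrum.isCompact_isOpen_iff.1
    ⟨isCompact_range (PrimeSpectrum.continuous_comap _), hopen⟩
  let gT : {x // x ∈ T} → SA := fun x => x.1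
  have hrange : ∀ (P : Ideal SA) [hP : P.IsPrime],
      (∃ i, gT i ∉ P) ↔ ∃ q' : Ideal S', q'.IsPrime ∧ q'.comap (algebraMap SA S') = P := fun P hP => by
    constructor
    · rintro ⟨⟨x, hx⟩, hxP⟩
      obtain ⟨Q, hQ⟩ := (hT ▸ fun h => hxP (h hx) : (⟨P, hP⟩ : PrimeSpectrum SA) ∈ Set.range φ)
      exact ⟨Q.asIdeal, Q.2, congrArg PrimeSpectrum.asIdeal hQ⟩
    · rintro ⟨q', hq', rfl⟩
      have : φ ⟨q', hq'⟩ ∈ Set.range φ := ⟨_, rfl⟩
      rw [← hT, Set.mem_compl_iff, PrimeSpectrum.mem_zeroLocus] at this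
      obtain ⟨x, hx, hxq⟩ := Set.not_subset.1 this
      exact ⟨⟨x, hx⟩, hxq⟩
  have hW : ∀ (W : Ideal SA) [W.IsPrime], W.comap (algebraMap R' SA) = p' →
      (W.comap (algebraMap S SA)).LiesOver p₀ := fun W _ hW => ⟨by
    rw [Ideal.under_def, Ideal.comap_comap, ← IsScalarTower.algebraMap_eq,
      IsScalarTower.algebraMap_eq R R' SA, ← Ideal.comap_comap, hW]
    exact hRo.over⟩
  have hflatA : ∀ (W : Ideal SA) [W.IsPrime], W.comap (algebraMap R' SA) = p' →
      FlatCA.FlatAt R' W NA := fun W _ hW' =>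
    FlatMor12.FlatAtBC.flatAt_baseChange (R := R) fN hfN W (hflat _ (hW W hW'))
  have hcovA : ∀ (W : Ideal SA) [W.IsPrime], W.comap (algebraMap R' SA) = p' → ∃ i, gT i ∉ W := by
    intro W _ hW'
    obtain ⟨q₁, hq₁, hq₁q, hq₁p⟩ := hcov _ (hW W hW')
    have : (q₁.comap (algebraMap SA S')).LiesOver p' := ⟨by
      rw [Ideal.under_def, Ideal.comap_comap, ← IsScalarTower.algebraMap_eq, hq₁p]⟩
    have : W.LiesOver p' := ⟨hW'.symm⟩
    refine (hrange W).2 ⟨q₁, hq₁, eq_of_isPushout (S := S) (S' := SA) p₀ p' hRb _ W ?_⟩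
    rw [Ideal.comap_comap, ← IsScalarTower.algebraMap_eq, hq₁q]
  -- the colimit
  obtain ⟨P, _, hPp, hPp', hnhd⟩ := exists_nhd_colim hR p
  let jS : R' →ₐ[R] SA := IsScalarTower.toAlgHom R R' SA
  let U : Ideal SA := Ideal.span {c | ∀ (Q : Ideal SA) [hQ : Q.IsPrime], c ∉ Q →
    InjFlatAt R' SA (mulTuple NA gT) ⟨Q, hQ⟩}
  let I : ∀ i, Ideal (G i ⊗[R] SA) := fun i => U.map (algebraMap SA (G i ⊗[R] SA))
  have hI : ∀ i l (h : i ≤ l), (I i).map (tmap (S := SA) (g i l h)).toRingHom ≤ I l := fun i l h => by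
    rw [Ideal.map_map]
    refine le_of_eq (congrArg (Ideal.map · U) (RingHom.ext fun x => ?_))
    show tmap (g i l h) ((1 : G i) ⊗ₜ[R] x) = (1 : G l) ⊗ₜ[R] x
    simp
  obtain ⟨k, hk⟩ := exists_stage_not_le g hc jS I hI P fun Q _ hQ => by
    have hInj := injFlatAt_image A fN hfN gT hrange p' hflatA hcovA f hf hpure P hPp hPp' hnhd Q hQ
    obtain ⟨i⟩ := hc.2.1
    obtain ⟨_, ⟨c, rfl⟩, hcQ, hcflat⟩ :=
      PrimeSpectrum.isTopologicalBasis_basic_opens.exists_subset_of_mem_open
        (show (⟨Q.comap (Algebra.TensorProduct.includeRight : SA →ₐ[R] A ⊗[R] SA).toRingHom, inferInstance⟩ :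
            PrimeSpectrum SA) ∈
          {q | InjFlatAt R' SA (mulTuple NA gT) q} from hInj)
        (isOpen_injFlatAt (mulTuple NA gT))
    refine ⟨i, algebraMap SA (G i ⊗[R] SA) c,
      Ideal.mem_map_of_mem _ (Ideal.subset_span fun Q' hQ' hc' => hcflat (a := ⟨Q', hQ'⟩) hc'), ?_⟩
    show tmap (IsScalarTower.toAlgHom R (G i) A) ((1 : G i) ⊗ₜ[R] c) ∉ Q
    rw [Algebra.TensorProduct.map_tmul, map_one]
    exact hcQ
  refine ⟨k, fun {_} => ?_⟩
  have hpk : (P.comap (pmap (G := G) A R' k).toRingHom).comap (algebraMap (G k) (G k ⊗[R] R')) =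
      p.comap (algebraMap (G k) A) := by
    rw [hPp.over, Ideal.under_def]
    ext x
    show pmap (G := G) A R' k (x ⊗ₜ[R] (1 : R')) ∈ P ↔ algebraMap A (A ⊗[R] R') (algebraMap (G k) A x) ∈ P
    rw [Algebra.TensorProduct.map_tmul]
    rfl
  let L := Localization.AtPrime (P.comap (pmap (G := G) A R' k).toRingHom)
  have : IsScalarTower R R' L := .of_algebraMap_eq fun r => by
    rw [IsScalarTower.algebraMap_apply R (G k ⊗[R] R') L, IsScalarTower.algebraMap_apply R R' (G k ⊗[R] R'),
      ← IsScalarTower.algebraMap_apply R' (G k ⊗[R] R') L]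
  have : Module.Flat (G k) L := Module.Flat.trans (G k) (G k ⊗[R] R') L
  have huniv := isUnivPureAlong_stage (R := R) (Gk := G k) (S' := S') fN hfN inferInstance gT hrange L
    (P.comap (pmap (G := G) A R' k).toRingHom) (IsLocalization.AtPrime.under_maximalIdeal L _)
    (p.comap (algebraMap (G k) A)) hpk fun Q _ hQ => by
      by_contra hne'
      refine hk Q hQ (Ideal.map_le_iff_le_comap.2 (Ideal.span_le.2 fun c hc' => ?_))
      by_contra hcQ
      exact hne' (hc' _ fun h => hcQ h)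
  intro A' B' N' _ _ _ _ _ _ _ _ _ _ _ _ _ _ f' t' t _ _ P' _ _
  exact huniv A' B' N' f' t' t P'

end Groth.Agent.FlatMorPureDescend
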