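import Groth.Agent.FlatMorPureDescend.Core
import Groth.Agent.FlatMorDevissage.FlatTransfer
import Groth.Agent.FlatMor12.FlatAtBC

/-!
# Models over stages
-/

set_option autoImplicit false
set_option backward.isDefEq.respectTransparency false

universe u

open TensorProduct Function

namespace Groth.Agent.FlatMorPureDescend

open Groth.Agent Groth.Agent.EGA43

attribute [local instance] FlatDescent.bcModule Algebra.TensorProduct.rightAlgebra

section BC

variable (R : Type u) [CommRing R] (P M : Type u) [CommRing P] [Algebra R P] [AddCommGroup M]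
  [Module R M] [Module P M] [IsScalarTower R P M] (A : Type u) [CommRing A] [Algebra R A]

/-- `A ⊗[R] M` with the action of `A ⊗[R] P` restricted to `P`. -/
@[instance_reducible]
noncomputable def bcModuleP : Module P (A ⊗[R] M) :=
  Module.compHom _ (algebraMap P (A ⊗[R] P))

attribute [local instance 50] bcModuleP

theorem isScalarTower_bc : IsScalarTower P (A ⊗[R] P) (A ⊗[R] M) := .of_algebraMap_smul fun _ _ => rfl

attribute [local instance 50] isScalarTower_bc

/-- The canonical map `M → A ⊗[R] M`. -/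
noncomputable def bcMap : M →ₗ[P] A ⊗[R] M where
  toFun m := (1 : A) ⊗ₜ[R] m
  map_add' := TensorProduct.tmul_add _
  map_smul' c m := by
    show (1 : A) ⊗ₜ[R] (c • m) = ((1 : A) ⊗ₜ[R] c) • ((1 : A) ⊗ₜ[R] m)
    rw [FlatDescent.bc_smul_tmul, one_mul]

theorem isBaseChange_bcMap : IsBaseChange (A ⊗[R] P) (bcMap R P M A) := by
  let e : (A ⊗[R] P) ⊗[P] M ≃ₗ[A] A ⊗[R] M := Algebra.IsPushout.cancelBaseChange R A P (A ⊗[R] P) M
  let L : (A ⊗[R] P) ⊗[P] M →ₗ[A ⊗[R] P] A ⊗[R] M :=
    LinearMap.liftBaseChange (A ⊗[R] P) (bcMap R P M A)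
  have hL : ∀ x, L x = e x := fun x => by
    induction x using TensorProduct.induction_on with
    | zero => simp
    | add x y hx hy => rw [map_add, map_add, hx, hy]
    | tmul z m =>
      induction z using TensorProduct.induction_on with
      | zero => simp
      | add x y hx hy => rw [TensorProduct.add_tmul, map_add, map_add, hx, hy]
      | tmul a c =>
        rw [LinearMap.liftBaseChange_tmul]
        show (a ⊗ₜ[R] c) • ((1 : A) ⊗ₜ[R] m) = _
        rw [FlatDescent.bc_smul_tmul, mul_one]
        have h1 : (a ⊗ₜ[R] c) ⊗ₜ[P] m = a • ((1 : A ⊗[R] P) ⊗ₜ[P] (c • m)) := by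
          rw [TensorProduct.tmul_smul, TensorProduct.smul_tmul', TensorProduct.smul_tmul']
          congr 1
          show a ⊗ₜ[R] c = a • (c • (1 : A ⊗[R] P))
          rw [Algebra.smul_def c, mul_one, Algebra.smul_def a]
          show a ⊗ₜ[R] c = (a ⊗ₜ[R] (1 : P)) * ((1 : A) ⊗ₜ[R] c)
          simp
        rw [h1, map_smul, Algebra.IsPushout.cancelBaseChange_tmul, TensorProduct.smul_tmul', smul_eq_mul,
          mul_one]
  exact IsBaseChange.of_equiv (LinearEquiv.ofBijective L (by
    rw [show (L : _ → _) = e from funext hL]; exact e.bijective)) fun m => by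
      show L ((1 : A ⊗[R] P) ⊗ₜ[P] m) = _
      rw [LinearMap.liftBaseChange_tmul, one_smul]

theorem finitePresentation_bc [Module.FinitePresentation P M] :
    Module.FinitePresentation (A ⊗[R] P) (A ⊗[R] M) :=
  Module.FinitePresentation.of_equiv (isBaseChange_bcMap R P M A).equiv

end BC

/-- Flatness at a point transfers along compatible maps. -/
theorem flatAt_transfer {A B B' N M : Type u} [CommRing A] [CommRing B] [CommRing B'] [Algebra A B]
    [Algebra A B'] [AddCommGroup N] [Module B N] [Module A N] [IsScalarTower A B N] [AddCommGroup M]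
    [Module B' M] [Module A M] [IsScalarTower A B' M] (φ : B →ₐ[A] B') (e : N ≃ₗ[A] M)
    (he : ∀ b n, e (b • n) = φ b • e n) (q : Ideal B') [q.IsPrime]
    (h : FlatCA.FlatAt A (q.comap φ.toRingHom) N) : FlatCA.FlatAt A q M := by
  rw [FlatMorDevissage.flatAt_iff_kerKilled] at h ⊢
  intro X Y _ _ _ _ i hi x hx
  obtain ⟨z, rfl⟩ := (LinearEquiv.rTensor X e).surjective x
  have hz : i.lTensor N z = 0 := by
    apply (LinearEquiv.rTensor Y e).injective
    rw [map_zero, ← hx]
    clear hx
    induction z using TensorProduct.induction_on with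
    | zero => simp
    | tmul n y => simp
    | add a b ha hb => simp only [map_add, ha, hb]
  obtain ⟨t, ht, htz⟩ := h i hi z hz
  refine ⟨φ t, ht, ?_⟩
  have : ∀ w, LinearEquiv.rTensor X e (t • w) = φ t • LinearEquiv.rTensor X e w := fun w => by
    induction w using TensorProduct.induction_on with
    | zero => simp
    | tmul n y => simp [TensorProduct.smul_tmul', he]
    | add a b ha hb => simp only [smul_add, map_add, ha, hb]
  rw [← this, htz, map_zero]

/-- Flatness along a fibre goes up to the base change. -/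
theorem flatAt_stage {R S Gk N : Type u} [CommRing R] [CommRing S] [CommRing Gk] [Algebra R S]
    [Algebra R Gk] [AddCommGroup N] [Module S N] [Module R N] [IsScalarTower R S N] (p₀ : Ideal R)
    (pk : Ideal Gk) (hp : pk.comap (algebraMap R Gk) = p₀)
    (hflat : ∀ (q : Ideal S) [q.IsPrime], q.LiesOver p₀ → FlatCA.FlatAt R q N)
    (q : Ideal (Gk ⊗[R] S)) [q.IsPrime] (hq : q.LiesOver pk) :
    FlatCA.FlatAt Gk q ((Gk ⊗[R] S) ⊗[S] N) := by
  have : Algebra.IsPushout R S Gk (Gk ⊗[R] S) := Algebra.IsPushout.symm inferInstance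
  refine FlatMor12.FlatAtBC.flatAt_baseChange (R := R) (TensorProduct.mk S (Gk ⊗[R] S) N 1)
    (TensorProduct.isBaseChange S N _) q (hflat _ ⟨?_⟩)
  rw [Ideal.under_def, Ideal.comap_comap, ← IsScalarTower.algebraMap_eq,
    IsScalarTower.algebraMap_eq R Gk (Gk ⊗[R] S), ← Ideal.comap_comap, ← Ideal.under_def _ q, ← hq.over,
    hp]

/-- The tail of a directed colimit of rings. -/
theorem isDirectedColimit_tail {ι : Type u} [Preorder ι] {G : ι → Type u} [∀ i, CommRing (G i)]
    {g : ∀ i j, i ≤ j → G i →+* G j} {A : Type u} [CommRing A] [∀ i, Algebra (G i) A]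
    (hc : FlatCA.IsDirectedColimitRing G g A) (i₀ : ι) :
    FlatCA.IsDirectedColimitRing (fun j : {j // i₀ ≤ j} => G j.1) (fun i j h => g i.1 j.1 h) A := by
  obtain ⟨hdir, -, hid, hcomp, hcompat, hsurj, hzero⟩ := hc
  refine ⟨⟨fun a b => ?_⟩, ⟨⟨i₀, le_rfl⟩⟩, fun i => hid i.1, fun i j k hij hjk => hcomp _ _ _ hij hjk,
    fun i j h => hcompat _ _ h, fun a => ?_, fun i x hx => ?_⟩
  · obtain ⟨c, hac, hbc⟩ := hdir.directed a.1 b.1
    exact ⟨⟨c, a.2.trans hac⟩, hac, hbc⟩
  · obtain ⟨i, x, hx⟩ := hsurj a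
    obtain ⟨k, hik, h0k⟩ := hdir.directed i i₀
    exact ⟨⟨k, h0k⟩, g i k hik x, (RingHom.congr_fun (hcompat i k hik) x).trans hx⟩
  · obtain ⟨j, hij, hj⟩ := hzero i.1 x hx
    exact ⟨⟨j, i.2.trans hij⟩, hij, hj⟩

end Groth.Agent.FlatMorPureDescend
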