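import Groth.Agent.FlatMor12.ColimTensor
import Groth.Agent.EGA43.FlatDescent.Main

/-!
# A compactness principle for points over the generalisations of a prime of a colimit
-/

set_option autoImplicit false
set_option backward.isDefEq.respectTransparency false

universe u

open TensorProduct Function

namespace Groth.Agent.FlatMorPureDescend

open Groth.Agent Groth.Agent.FlatMor12

variable {R : Type u} [CommRing R] {ι : Type u} [Preorder ι] {G : ι → Type u}
  [∀ i, CommRing (G i)] [∀ i, Algebra R (G i)] (g : ∀ i j, i ≤ j → G i →ₐ[R] G j)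
  {A : Type u} [CommRing A] [Algebra R A] [∀ i, Algebra (G i) A] [∀ i, IsScalarTower R (G i) A]
  (hc : FlatCA.IsDirectedColimitRing G (fun i j h => (g i j h).toRingHom) A)

/-- The map of tensor products induced by an algebra map. -/
noncomputable abbrev tmap {S : Type u} [CommRing S] [Algebra R S] {B C : Type u} [CommRing B]
    [CommRing C] [Algebra R B] [Algebra R C] (φ : B →ₐ[R] C) : B ⊗[R] S →ₐ[R] C ⊗[R] S :=
  Algebra.TensorProduct.map φ (AlgHom.id R S)

/-- The map to the colimit of the tensor products. -/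
noncomputable abbrev pmap (A : Type u) [CommRing A] [Algebra R A] [∀ i, Algebra (G i) A]
    [∀ i, IsScalarTower R (G i) A] (S : Type u) [CommRing S] [Algebra R S] (i : ι) :
    G i ⊗[R] S →ₐ[R] A ⊗[R] S :=
  tmap (IsScalarTower.toAlgHom R (G i) A)

theorem rTensor_eq_tmap {S : Type u} [CommRing S] [Algebra R S] {B C : Type u} [CommRing B]
    [CommRing C] [Algebra R B] [Algebra R C] (φ : B →ₐ[R] C) (z : B ⊗[R] S) :
    φ.toLinearMap.rTensor S z = tmap φ z := by
  induction z using TensorProduct.induction_on with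
  | zero => simp
  | add u v hu hv => simp only [map_add, hu, hv]
  | tmul b s => rfl

include hc in
theorem pmap_tmap {S : Type u} [CommRing S] [Algebra R S] {i j : ι} (hij : i ≤ j)
    (z : G i ⊗[R] S) : pmap A S j (tmap (g i j hij) z) = pmap A S i z := by
  induction z using TensorProduct.induction_on with
  | zero => simp
  | add u v hu hv => simp only [map_add, hu, hv]
  | tmul b s => simp [ColimTensor.algebraMap_g g hc hij b]

include hc in
set_option maxHeartbeats 800000 in
/-- If every prime of `A ⊗ S` over a generalisation of `P` avoids the image of some `I i`, then at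
some stage every prime over a generalisation of `P` avoids `I i`. -/
theorem exists_stage_not_le {T S : Type u} [CommRing T] [CommRing S] [Algebra R T] [Algebra R S]
    (j : T →ₐ[R] S) (I : ∀ i, Ideal (G i ⊗[R] S))
    (hI : ∀ i k (h : i ≤ k), (I i).map (tmap (S := S) (g i k h)).toRingHom ≤ I k)
    (P : Ideal (A ⊗[R] T)) [P.IsPrime]
    (h : ∀ (Q : Ideal (A ⊗[R] S)) [Q.IsPrime],
      Q.comap (Algebra.TensorProduct.map (AlgHom.id R A) j).toRingHom ≤ P →
      ∃ i, ∃ y ∈ I i, pmap A S i y ∉ Q) :
    ∃ i, ∀ (Q : Ideal (G i ⊗[R] S)) [Q.IsPrime],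
      Q.comap (Algebra.TensorProduct.map (AlgHom.id R (G i)) j).toRingHom ≤
        P.comap (pmap A T i).toRingHom → ¬ I i ≤ Q := by
  classical
  have := hc.1
  have := hc.2.1
  let jm (B : Type u) [CommRing B] [Algebra R B] := Algebra.TensorProduct.map (AlgHom.id R B) j
  have hnat : ∀ i (z : G i ⊗[R] T), pmap A S i (jm (G i) z) = jm A (pmap A T i z) := fun i z => by
    induction z using TensorProduct.induction_on with
    | zero => simp
    | add u v hu hv => simp only [map_add, hu, hv]
    | tmul b t => rfl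
  have hnat' : ∀ i k (hik : i ≤ k) (z : G i ⊗[R] T),
      tmap (g i k hik) (jm (G i) z) = jm (G k) (tmap (g i k hik) z) := fun i k hik z => by
    induction z using TensorProduct.induction_on with
    | zero => simp
    | add u v hu hv => simp only [map_add, hu, hv]
    | tmul b t => rfl
  have hsurj : ∀ x : A ⊗[R] S, ∃ i z, pmap A S i z = x := fun x => by
    obtain ⟨i, z, hz⟩ := ColimTensor.exists_stage g hc S x
    exact ⟨i, z, (rTensor_eq_tmap _ z).symm.trans hz⟩
  let U : Ideal (A ⊗[R] S) :=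
    { carrier := {x | ∃ i, ∃ y ∈ I i, pmap A S i y = x}
      zero_mem' := hc.2.1.elim fun i => ⟨i, 0, Ideal.zero_mem _, map_zero _⟩
      add_mem' := by
        rintro _ _ ⟨i, y, hy, rfl⟩ ⟨l, z, hz, rfl⟩
        obtain ⟨k, hik, hlk⟩ := exists_ge_ge i l
        exact ⟨k, _, Ideal.add_mem _ (hI i k hik (Ideal.mem_map_of_mem _ hy))
          (hI l k hlk (Ideal.mem_map_of_mem _ hz)),
          (map_add _ _ _).trans (congrArg₂ (· + ·) (pmap_tmap g hc hik y) (pmap_tmap g hc hlk z))⟩
      smul_mem' := by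
        rintro x _ ⟨i, y, hy, rfl⟩
        obtain ⟨l, z, rfl⟩ := hsurj x
        obtain ⟨k, hik, hlk⟩ := exists_ge_ge i l
        exact ⟨k, _, Ideal.mul_mem_left _ (tmap (g l k hlk) z) (hI i k hik (Ideal.mem_map_of_mem _ hy)),
          (map_mul _ _ _).trans (congrArg₂ (· * ·) (pmap_tmap g hc hlk z) (pmap_tmap g hc hik y))⟩ }
  obtain ⟨s, hs, hsU⟩ : ∃ s ∉ P, jm A s ∈ U := by
    by_contra! hno
    have hdisj : Disjoint (U : Set (A ⊗[R] S)) (P.primeCompl.map (jm A) : Set (A ⊗[R] S)) :=
      Set.disjoint_left.2 fun x hx hx' => by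
        obtain ⟨s, hs, rfl⟩ := hx'
        exact hno s hs hx
    obtain ⟨Q, hQ, hle, hQd⟩ := Ideal.exists_le_prime_disjoint _ _ hdisj
    obtain ⟨i, y, hy, hyQ⟩ := h Q fun x hx => by
      by_contra hxP
      exact Set.disjoint_left.1 hQd hx ⟨x, hxP, rfl⟩
    exact hyQ (hle ⟨i, y, hy, rfl⟩)
  obtain ⟨i, y, hy, hyx⟩ := hsU
  obtain ⟨l, z, hz⟩ := ColimTensor.exists_stage g hc T s
  rw [rTensor_eq_tmap] at hz
  obtain ⟨k, hik, hlk⟩ := exists_ge_ge i l
  have h0 : pmap A S k (tmap (g i k hik) y - jm (G k) (tmap (g l k hlk) z)) = 0 := by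
    rw [map_sub, pmap_tmap g hc, hyx, hnat, pmap_tmap g hc, sub_eq_zero]
    exact congrArg (jm A) hz.symm
  obtain ⟨m, hkm, hm⟩ := ColimTensor.exists_stage_eq_zero g hc S _ ((rTensor_eq_tmap _ _).trans h0)
  rw [rTensor_eq_tmap, map_sub, sub_eq_zero, hnat'] at hm
  refine ⟨m, fun Q _ hQP hIQ => ?_⟩
  have hmem : tmap (g k m hkm) (tmap (g l k hlk) z) ∈
      Q.comap (jm (G m)).toRingHom := by
    show jm (G m) _ ∈ Q
    rw [← hm]
    exact hIQ (hI k m hkm (Ideal.mem_map_of_mem _ (hI i k hik (Ideal.mem_map_of_mem _ hy))))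
  have h2 : pmap A T m (tmap (g k m hkm) (tmap (g l k hlk) z)) ∈ P := hQP hmem
  rw [pmap_tmap g hc, pmap_tmap g hc] at h2
  exact hs (hz ▸ h2)

attribute [local instance] EGA43.FlatDescent.bcModule

include hc in
set_option maxHeartbeats 800000 in
/-- Flatness along the fibre over a prime of the colimit holds along the fibre at some stage. -/
theorem exists_stage_flat_fibre [IsNoetherianRing R] {S M : Type u} [CommRing S] [Algebra R S]
    [Algebra.FiniteType R S] [AddCommGroup M] [Module R M] [Module S M] [IsScalarTower R S M]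
    [Module.Finite S M] (p : Ideal A) [p.IsPrime]
    (h : ∀ (Q : Ideal (A ⊗[R] S)) [Q.IsPrime],
      Q.comap (algebraMap A (A ⊗[R] S)) = p → EGA43.FlatDescent.FlatAt R S M A Q) :
    ∃ i, ∀ (q : Ideal (G i ⊗[R] S)) [q.IsPrime],
      q.comap (algebraMap (G i) (G i ⊗[R] S)) = p.comap (algebraMap (G i) A) →
      EGA43.FlatDescent.FlatAt R S M (G i) q := by
  classical
  let I : ∀ i, Ideal (G i ⊗[R] S) := fun i =>
    Ideal.span {c | ∀ (q : Ideal (G i ⊗[R] S)) [q.IsPrime], c ∉ q →
      EGA43.FlatDescent.FlatAt R S M (G i) q} ⊔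
      (p.comap (algebraMap (G i) A)).map (algebraMap (G i) (G i ⊗[R] S))
  have hI : ∀ i k (h : i ≤ k), (I i).map (tmap (S := S) (g i k h)).toRingHom ≤ I k := by
    intro i k hik
    refine Ideal.map_le_iff_le_comap.2 (sup_le (Ideal.span_le.2 fun c hc' => ?_)
      (Ideal.map_le_iff_le_comap.2 fun a ha => ?_))
    · refine Ideal.mem_sup_left (Ideal.subset_span ?_)
      intro q _ hq
      exact EGA43.FlatDescent.FlatAt.of_hom (g i k hik) (hc' _ hq)
    · refine Ideal.mem_sup_right ?_
      have he : (tmap (S := S) (g i k hik)).toRingHom (algebraMap (G i) (G i ⊗[R] S) a) =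
          algebraMap (G k) (G k ⊗[R] S) (g i k hik a) := by
        show tmap (g i k hik) (a ⊗ₜ[R] (1 : S)) = g i k hik a ⊗ₜ[R] (1 : S)
        simp
      rw [he]
      refine Ideal.mem_map_of_mem _ ?_
      rw [Ideal.mem_comap, ColimTensor.algebraMap_g g hc hik a]
      exact ha
  let P : Ideal (A ⊗[R] R) := p.comap (Algebra.TensorProduct.rid R R A).toRingEquiv.toRingHom
  obtain ⟨i, hi⟩ := exists_stage_not_le g hc (Algebra.ofId R S) I hI P fun Q _ hQ => by
    have hle : Q.comap (algebraMap A (A ⊗[R] S)) ≤ p := fun a ha => by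
      have := hQ (show a ⊗ₜ[R] (1 : R) ∈ Q.comap
          (Algebra.TensorProduct.map (AlgHom.id R A) (Algebra.ofId R S)).toRingHom by
        show Algebra.TensorProduct.map (AlgHom.id R A) (Algebra.ofId R S) (a ⊗ₜ[R] (1 : R)) ∈ Q
        rw [Algebra.TensorProduct.map_tmul, map_one]
        exact ha)
      simpa [P] using this
    by_cases hp : p ≤ Q.comap (algebraMap A (A ⊗[R] S))
    · have hQflat := h Q (le_antisymm hle hp)
      obtain ⟨B, hB, hBq⟩ := EGA43.FlatDescent.exists_stage_flatAt Q hQflat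
      have := EGA43.FlatDescent.isNoetherianRing_of_fg hB
      let σ := Algebra.TensorProduct.map B.val (AlgHom.id R S)
      obtain ⟨_, ⟨c, rfl⟩, hcq, hcflat⟩ :=
        PrimeSpectrum.isTopologicalBasis_basic_opens.exists_subset_of_mem_open
          (show PrimeSpectrum.comap σ.toRingHom ⟨Q, inferInstance⟩ ∈
            {q | EGA43.FlatDescent.FlatAt R S M B q.asIdeal} from hBq)
          EGA43.FlatDescent.isOpen_flatAt_of_isNoetherianRing
      have : Algebra.FiniteType R B := B.fg_iff_finiteType.1 hB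
      have : Algebra.FinitePresentation R B := Algebra.FinitePresentation.of_finiteType.1 inferInstance
      obtain ⟨i, φ, hφ⟩ := ColimTensor.exists_lift g hc B B.val
      refine ⟨i, tmap φ c, Ideal.mem_sup_left (Ideal.subset_span fun q _ hq => ?_), ?_⟩
      · have hpr : (q.comap (tmap (S := S) φ).toRingHom).IsPrime := Ideal.IsPrime.comap _
        exact EGA43.FlatDescent.FlatAt.of_hom (q := q) φ (hcflat (a := ⟨_, hpr⟩) hq)
      · have he : pmap A S i (tmap φ c) = σ c := by
          clear hcq hcflat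
          induction c using TensorProduct.induction_on with
          | zero => simp
          | add u v hu hv => simp only [map_add, hu, hv]
          | tmul b x => simp [σ, hφ]
        rw [he]
        exact hcq
    · obtain ⟨a, ha, haQ⟩ := SetLike.not_le_iff_exists.1 hp
      obtain ⟨i, x, rfl⟩ := hc.2.2.2.2.2.1 a
      refine ⟨i, algebraMap (G i) (G i ⊗[R] S) x, Ideal.mem_sup_right (Ideal.mem_map_of_mem _ ha), ?_⟩
      show pmap A S i (x ⊗ₜ[R] (1 : S)) ∉ Q
      simpa using haQ
  refine ⟨i, fun q _ hq => ?_⟩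
  by_contra hne
  refine hi q ?_ (sup_le (Ideal.span_le.2 fun c hc' => ?_)
    (Ideal.map_le_iff_le_comap.2 hq.ge))
  · intro z hz
    obtain ⟨a, rfl⟩ := (Algebra.TensorProduct.rid R R (G i)).symm.surjective z
    rw [Algebra.TensorProduct.rid_symm_apply] at hz ⊢
    have ha : a ∈ q.comap (algebraMap (G i) (G i ⊗[R] S)) := by
      show a ⊗ₜ[R] (1 : S) ∈ q
      simpa using hz
    rw [hq] at ha
    simpa [P] using ha
  · by_contra hcq
    exact hne (hc' q hcq)

end Groth.Agent.FlatMorPureDescend
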